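import Cfsg.Agent.Characters.Core
import Cfsg.Agent.Characters.Values
import Cfsg.Agent.Characters.GaloisBasic

/-!
# Small tools on characters used in the Brauer-Suzuki-Wall theorem
-/

set_option autoImplicit false

open scoped ComplexConjugate
open Cfsg

namespace Cfsg.Agent.Classification.BSW.CharTools

open Cfsg.Agent.Characters.Core

variable {G : Type*} [Group G]

/-- In a simple group a nonprincipal irreducible character is faithful. -/
theorem eq_one_of_apply_eq [Finite G] [IsSimpleGroup G] {φ : G → ℂ} (hφ : IsIrrCharacter G φ)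
    (h1 : φ ≠ 1) {d : G} (hd : φ d = φ 1) : d = 1 := by
  classical
  have := Fintype.ofFinite G
  have hφ' := hφ
  obtain ⟨n, ρ, hρ, rfl⟩ := hφ
  have hker : d ∈ MonoidHom.ker ρ := by
    rw [MonoidHom.mem_ker]
    have := (Cfsg.Agent.Characters.Values.character_eq_finrank_iff ρ d).1
      (by rw [hd]; exact Representation.char_one ρ)
    exact this
  rcases (MonoidHom.normal_ker ρ).eq_bot_or_eq_top with hb | ht
  · rw [hb] at hker
    exact Subgroup.mem_bot.1 hker
  · exfalso
    apply h1
    by_contra hne
    have h2 := classInner_irr_ne hφ' isIrr_one hne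
    have h3 : ∀ g : G, ρ.character g = ρ.character 1 := by
      intro g
      have : g ∈ MonoidHom.ker ρ := ht ▸ Subgroup.mem_top g
      rw [MonoidHom.mem_ker] at this
      show LinearMap.trace ℂ _ (ρ g) = LinearMap.trace ℂ _ (ρ 1)
      have e1 : ρ 1 = 1 := map_one ρ
      rw [this, e1]
    have h3' : ∀ g : G, ρ.character g * conj ((1 : G → ℂ) g) =
        ρ.character 1 * conj ((1 : G → ℂ) g) := fun g => by rw [h3 g]
    rw [classInner_def, Finset.sum_congr rfl (fun g _ => h3' g)] at h2
    simp only [Pi.one_apply, map_one, mul_one, Finset.sum_const, Finset.card_univ,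
      nsmul_eq_mul] at h2
    rcases mul_eq_zero.1 h2 with h4 | h4
    · exact (inv_ne_zero card_ne_zero_complex) h4
    · rcases mul_eq_zero.1 h4 with h5 | h5
      · exact card_ne_zero_complex (G := G) (by rw [Nat.card_eq_fintype_card]; exact h5)
      · exact isIrr_apply_one_ne_zero hφ' h5

/-- The sum of a character over a subgroup is divisible by the order of the subgroup. -/
theorem exists_sum_eq [Finite G] {φ : G → ℂ} (hφ : IsCharacter G φ) (H : Subgroup G) [Fintype H] :
    ∃ n : ℕ, ∑ x : H, φ x = Nat.card H * n := by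
  classical
  have hχ : IsCharacter H (fun x : H => φ x) := isCharacter_comp H.subtype hφ
  obtain ⟨n, hn⟩ := classInner_isNat hχ isCharacter_one
  refine ⟨n, ?_⟩
  rw [classInner_def] at hn
  simp only [Pi.one_apply, map_one, mul_one] at hn
  rw [← hn, mul_inv_cancel_left₀ card_ne_zero_complex]

/-- If a character takes the constant integer value `c` on the nontrivial elements of a subgroup
then `φ 1 ≡ c` modulo the order of the subgroup. -/
theorem dvd_of_const [Finite G] {φ : G → ℂ} (hφ : IsCharacter G φ) (H : Subgroup G) (f c : ℤ)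
    (hf : φ 1 = f) (hc : ∀ x ∈ H, x ≠ 1 → φ x = c) : (Nat.card H : ℤ) ∣ f - c := by
  classical
  have := Fintype.ofFinite H
  obtain ⟨n, hn⟩ := exists_sum_eq hφ H
  have e1 : ∀ x : H, φ x = c + (if x = 1 then (f : ℂ) - c else 0) := by
    intro x
    by_cases hx : x = 1
    · rw [if_pos hx, hx]; simp [hf]
    · rw [if_neg hx, hc x x.2 (fun h1 => hx (Subtype.ext h1)), add_zero]
  rw [Finset.sum_congr rfl (fun x _ => e1 x), Finset.sum_add_distrib, Finset.sum_const,
    Finset.sum_ite_eq', if_pos (Finset.mem_univ _), Finset.card_univ,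
    ← Nat.card_eq_fintype_card, nsmul_eq_mul] at hn
  refine ⟨n - c, ?_⟩
  have : ((f - c : ℤ) : ℂ) = ((Nat.card H * (n - c) : ℤ) : ℂ) := by
    push_cast
    linear_combination hn
  exact_mod_cast this

/-- A rational character value is an integer. -/
theorem exists_int_of_rat [Finite G] {φ : G → ℂ} (hφ : IsCharacter G φ) (d : G)
    (hq : ∃ q : ℚ, φ d = q) : ∃ c : ℤ, φ d = c := by
  obtain ⟨n, ρ, rfl⟩ := hφ
  exact Cfsg.Agent.Characters.GaloisBasic.exists_int_of_isIntegral
    (Cfsg.Agent.Characters.Values.character_isIntegral ρ d) hq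

/-- The absolute value of a character value is bounded by the degree. -/
theorem le_of_int [Finite G] {φ : G → ℂ} (hφ : IsCharacter G φ) (d : G) (f c : ℤ)
    (hf : φ 1 = f) (hc : φ d = c) : c ≤ f := by
  obtain ⟨n, ρ, rfl⟩ := hφ
  have h1 := Cfsg.Agent.Characters.Values.norm_character_le ρ d
  rw [hc] at h1
  rw [Representation.char_one] at hf
  have h2 : (Module.finrank ℂ (Fin n → ℂ) : ℤ) = f := by exact_mod_cast hf
  rw [Complex.norm_intCast] at h1
  have h3 : (c : ℝ) ≤ f := by
    calc (c : ℝ) ≤ |(c : ℝ)| := le_abs_self _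
      _ ≤ _ := h1
      _ = f := by rw [← h2]; push_cast; rfl
  exact_mod_cast h3

/-- The sum of a nonprincipal irreducible character over the group vanishes. -/
theorem sum_eq_zero [Fintype G] {φ : G → ℂ} (hφ : IsIrrCharacter G φ) (h1 : φ ≠ 1) :
    ∑ x : G, φ x = 0 := by
  have h2 := classInner_irr_ne hφ isIrr_one h1
  rw [classInner_def] at h2
  simp only [Pi.one_apply, map_one, mul_one] at h2
  exact (mul_eq_zero.1 h2).resolve_left (inv_ne_zero card_ne_zero_complex)

end Cfsg.Agent.Classification.BSW.CharTools
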