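import Cfsg.Agent.Classification.BSW.Good
import Cfsg.Agent.Classification.BSW.CharTools
import Cfsg.Agent.SmallSimple.PRQb

/-!
# The case where the centraliser of the involution has order four
-/

set_option autoImplicit false

open scoped ComplexConjugate
open Cfsg

namespace Cfsg.Agent.Classification.BSW.Four

open Cfsg.Agent.Characters.Core Cfsg.Agent.Characters.Linear Cfsg.Agent.Characters.ClassMul
open Cfsg.Agent.Classification.BSW.Setup Cfsg.Agent.Classification.BSW.Theta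
open Cfsg.Agent.Classification.BSW.BetaSum Cfsg.Agent.Classification.BSW.SqSum
open Cfsg.Agent.Classification.BSW.Good Cfsg.Agent.Classification.BSW.CharTools

/-- The arithmetic: `a, b, c ≡ 1 (mod 4)`. -/
theorem arith {a b c g : ℤ} (ha : 4 ∣ a - 1) (hb : 4 ∣ b - 1) (hc : 4 ∣ c - 1) (ha1 : a ≠ 1)
    (hb1 : b ≠ 1) (hc1 : c ≠ 1) (hs : a + b + c = -1)
    (hg : g * (a * b * c + a * b + b * c + a * c) = 32 * (a * b * c))
    (hle : 1 + a ^ 2 + b ^ 2 + c ^ 2 ≤ g) : g = 60 := by
  have key : ∀ x : ℤ, 4 ∣ x - 1 → x ≠ 1 → (5 ≤ x ∨ x ≤ -3) := by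
    intro x hx hx1
    omega
  have hgpos : 0 < g := by nlinarith [sq_nonneg a, sq_nonneg b, sq_nonneg c]
  -- `1 / x ≥ -1/3`
  have hinv : ∀ x : ℤ, (5 ≤ x ∨ x ≤ -3) → (-1 / 3 : ℚ) ≤ 1 / (x : ℚ) := by
    intro x hx
    rcases hx with hx | hx
    · have : (0 : ℚ) < x := by exact_mod_cast (show (0 : ℤ) < x by omega)
      have : (0 : ℚ) < 1 / (x : ℚ) := by positivity
      linarith
    · have h1 : (x : ℚ) ≤ -3 := by exact_mod_cast hx
      have h2 : (x : ℚ) < 0 := by linarith
      rw [le_div_iff_of_neg h2]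
      linarith
  have hpos : ∀ x : ℤ, 5 ≤ x → (0 : ℚ) < 1 / (x : ℚ) := by
    intro x hx
    have : (0 : ℚ) < x := by exact_mod_cast (show (0 : ℤ) < x by omega)
    positivity
  have hsum : (1 / 3 : ℚ) < 1 + 1 / (a : ℚ) + 1 / (b : ℚ) + 1 / (c : ℚ) := by
    have h1 := hinv a (key a ha ha1)
    have h2 := hinv b (key b hb hb1)
    have h3 := hinv c (key c hc hc1)
    rcases key a ha ha1 with h4 | h4
    · have := hpos a h4
      linarith
    · rcases key b hb hb1 with h5 | h5
      · have := hpos b h5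
        linarith
      · rcases key c hc hc1 with h6 | h6
        · have := hpos c h6
          linarith
        · omega
  have ha0 : (a : ℚ) ≠ 0 := by
    have : a ≠ 0 := by rcases key a ha ha1 with h | h <;> omega
    exact_mod_cast this
  have hb0 : (b : ℚ) ≠ 0 := by
    have : b ≠ 0 := by rcases key b hb hb1 with h | h <;> omega
    exact_mod_cast this
  have hc0 : (c : ℚ) ≠ 0 := by
    have : c ≠ 0 := by rcases key c hc hc1 with h | h <;> omega
    exact_mod_cast this
  have hgq : (g : ℚ) * (1 + 1 / (a : ℚ) + 1 / (b : ℚ) + 1 / (c : ℚ)) = 32 := by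
    have h1 : (g : ℚ) * (a * b * c + a * b + b * c + a * c) = 32 * (a * b * c) := by
      exact_mod_cast hg
    field_simp
    linear_combination h1
  have hg96 : g < 96 := by
    have h0 : (0 : ℚ) < g := by exact_mod_cast hgpos
    have : (g : ℚ) * (1 / 3) < 32 := by
      rw [← hgq]
      exact mul_lt_mul_of_pos_left hsum h0
    have h2 : (g : ℚ) < 96 := by linarith
    exact_mod_cast h2
  have bd : ∀ x : ℤ, x ^ 2 ≤ 94 → -9 ≤ x ∧ x ≤ 9 := by
    intro x hx
    constructor <;> nlinarith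
  obtain ⟨ha2, ha3⟩ := bd a (by nlinarith [sq_nonneg a, sq_nonneg b, sq_nonneg c])
  obtain ⟨hb2, hb3⟩ := bd b (by nlinarith [sq_nonneg a, sq_nonneg b, sq_nonneg c])
  have hcv : c = -1 - a - b := by omega
  subst hcv
  have ha4 : a = -7 ∨ a = -3 ∨ a = 5 ∨ a = 9 := by omega
  have hb4 : b = -7 ∨ b = -3 ∨ b = 5 ∨ b = 9 := by omega
  rcases ha4 with rfl | rfl | rfl | rfl <;> rcases hb4 with rfl | rfl | rfl | rfl <;>
    norm_num at * <;> omega

section

variable {G : Type*} [Group G] [Fintype G] [IsSimpleGroup G] {A : Subgroup G} {t s : G}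
  (h : BSWData A t s)
include h

theorem card_sixty (hA : Nat.card A = 2) : Nat.card G = 60 := by
  classical
  have : Finite (IrrCharacter G) := finite_irr
  have := Fintype.ofFinite (IrrCharacter G)
  have hA2 : ∀ a ∈ A, a = 1 ∨ a = t := by
    intro a ha
    by_cases ha1 : a = 1
    · exact Or.inl ha1
    · right
      apply h.t_unique ha ha1
      have h1 := orderOf_dvd_natCard (⟨a, ha⟩ : A)
      rw [Subgroup.orderOf_mk, hA] at h1
      rw [← pow_two]
      exact orderOf_dvd_iff_pow_eq_one.1 h1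
  -- nontrivial elements of the centraliser are involutions
  have hC : ∀ x ∈ Subgroup.centralizer ({t} : Set G), x ≠ 1 → IsConj t x := by
    intro x hx hx1
    rw [isConj_t_iff h]
    refine ⟨hx1, ?_⟩
    rw [Subgroup.mem_centralizer_singleton_iff, h.commute_t_iff] at hx
    rcases hx with hx | hx
    · rcases hA2 x hx with h1 | h1
      · exact absurd h1 hx1
      · rw [h1]; exact h.t_sq
    · exact h.sq_of_s_mul_mem hx
  have hc4 : Nat.card (Subgroup.centralizer ({t} : Set G)) = 4 := by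
    rw [card_centralizer h, hA]
  choose w hw using exists_int_t h
  choose f hf0 hf using fun χ : IrrCharacter G => isIrr_apply_one χ.2
  have hmod : ∀ χ : IrrCharacter G, (4 : ℤ) ∣ (f χ : ℤ) - w χ := by
    intro χ
    have h1 := dvd_of_const (isIrr_isCharacter χ.2) (Subgroup.centralizer ({t} : Set G)) (f χ)
      (w χ) (by rw [hf χ]; push_cast; rfl) ?_
    · rw [hc4] at h1
      exact_mod_cast h1
    · intro x hx hx1
      rw [← hw χ]
      obtain ⟨c, hc⟩ := isConj_iff.1 (hC x hx hx1)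
      rw [← hc]
      exact isIrr_isClassFunction χ.2 t c
  have hsq : ∑ χ : IrrCharacter G, w χ ^ 2 = 4 := by
    have h1 := sum_char_t_sq h
    rw [hA] at h1
    have h2 : ((∑ χ : IrrCharacter G, w χ ^ 2 : ℤ) : ℂ) = ((4 : ℤ) : ℂ) := by
      push_cast
      rw [Finset.sum_congr rfl (fun χ _ => by rw [← hw χ]), h1]
      norm_num
    exact_mod_cast h2
  have hw0 : w one = 1 := by
    have h1 := hw one
    rw [one_apply] at h1
    exact_mod_cast h1.symm
  obtain ⟨i1, hi1, hwi1⟩ : ∃ i1 : IrrCharacter G, i1 ≠ one ∧ w i1 ^ 2 = 1 := by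
    by_contra hcon
    push Not at hcon
    have h1 : ∀ j : IrrCharacter G, j ≠ one → w j ^ 2 = 0 := by
      intro j hj
      rcases entry_le w one j hj hw0 hsq.le with h2 | h2
      · rw [h2]; norm_num
      · exact absurd h2 (hcon j hj)
    have h2 := Finset.add_sum_erase Finset.univ (fun j => w j ^ 2) (Finset.mem_univ one)
    rw [hsq, hw0, Finset.sum_eq_zero (fun j hj => h1 j (Finset.mem_erase.1 hj).1)] at h2
    norm_num at h2
  obtain ⟨i2, i3, h20, h21, h30, h31, h23, hwi2, hwi3, hz, hF⟩ := fourth w one i1 hi1 hw0 hwi1 hsq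
  -- the integers
  have hwc : ∀ {i : IrrCharacter G}, w i ^ 2 = 1 → (w i : ℂ) ^ 2 = 1 := by
    intro i hi
    exact_mod_cast hi
  have hf1 : (f one : ℂ) = 1 := by rw [← hf one, one_apply]
  have hg1 : (1 : ℂ) + w i1 * f i1 + w i2 * f i2 + w i3 * f i3 = 0 := by
    have h1 := hF (fun j => (f j : ℂ))
    rw [hf1] at h1
    rw [← h1]
    have h2 := Cfsg.Agent.S0145.sum_irr_mul_conj t (1 : G)
    rw [if_neg (fun h3 => h.t_ne (isConj_one_left.1 h3))] at h2
    rw [← h2]
    refine Finset.sum_congr rfl (fun χ _ => ?_)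
    rw [hw χ, hf χ, map_natCast]
  have hg2 : (Nat.card G : ℂ) * (1 + w i1 / f i1 + w i2 / f i2 + w i3 / f i3) = 32 := by
    have h1 := hF (fun j => (w j : ℂ) ^ 2 / f j)
    rw [hf1, hw0, hwc hwi1, hwc hwi2, hwc hwi3] at h1
    have h2 := beta_formula h t
    rw [h.beta_eq h.t_mem h.t_ne, hA] at h2
    have h3 : ∑ χ : IrrCharacter G, (χ : G → ℂ) t ^ 2 * (χ : G → ℂ) t / (χ : G → ℂ) 1 =
        ∑ j : IrrCharacter G, (w j : ℂ) * ((w j : ℂ) ^ 2 / f j) := by
      refine Finset.sum_congr rfl (fun χ _ => ?_)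
      rw [hw χ, hf χ]
      ring
    rw [h3, h1] at h2
    push_cast at h2
    rw [show (1 : ℂ) + w i1 / f i1 + w i2 / f i2 + w i3 / f i3 = 1 ^ 2 / 1 + w i1 * (1 / f i1) +
      w i2 * (1 / f i2) + w i3 * (1 / f i3) by ring, ← h2]
    norm_num
  have hg3 : 1 + (f i1 : ℤ) ^ 2 + (f i2 : ℤ) ^ 2 + (f i3 : ℤ) ^ 2 ≤ Nat.card G := by
    have h2 := Cfsg.Agent.S0145.sum_irr_mul_conj (1 : G) (1 : G)
    rw [if_pos (IsConj.refl _)] at h2
    have h3 : Subgroup.centralizer ({1} : Set G) = ⊤ := by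
      rw [Subgroup.centralizer_eq_top_iff_subset]
      simp [Set.singleton_subset_iff]
    rw [h3, Subgroup.card_top] at h2
    have h4 : ((∑ χ : IrrCharacter G, (f χ : ℤ) ^ 2 : ℤ) : ℂ) = ((Nat.card G : ℤ) : ℂ) := by
      push_cast
      rw [← h2]
      refine Finset.sum_congr rfl (fun χ _ => ?_)
      rw [hf χ, map_natCast, pow_two]
    have h5 : ∑ χ : IrrCharacter G, (f χ : ℤ) ^ 2 = (Nat.card G : ℤ) := by exact_mod_cast h4
    rw [← h5]
    have h6 : ∑ χ ∈ ({one, i1, i2, i3} : Finset (IrrCharacter G)), (f χ : ℤ) ^ 2 ≤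
        ∑ χ : IrrCharacter G, (f χ : ℤ) ^ 2 :=
      Finset.sum_le_sum_of_subset_of_nonneg (Finset.subset_univ _) (fun j _ _ => sq_nonneg _)
    refine le_trans (le_of_eq ?_) h6
    have hf1' : f one = 1 := by exact_mod_cast hf1
    rw [Finset.sum_insert, Finset.sum_insert, Finset.sum_insert, Finset.sum_singleton, hf1']
    · push_cast; ring
    · simp [h23]
    · simp [h21.symm, h31.symm]
    · simp [hi1.symm, h20.symm, h30.symm]
  have hwz : ∀ {i : IrrCharacter G}, w i ^ 2 = 1 → w i = 1 ∨ w i = -1 := fun hi => int_sq_one hi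
  have hmod' : ∀ {i : IrrCharacter G}, w i ^ 2 = 1 → (4 : ℤ) ∣ w i * f i - 1 := by
    intro i hi
    have h1 := hmod i
    rcases hwz hi with h2 | h2 <;> rw [h2] at h1 ⊢ <;> omega
  have hne1 : ∀ {i : IrrCharacter G}, i ≠ one → w i ^ 2 = 1 → w i * (f i : ℤ) ≠ 1 := by
    intro i hi0 hi h1
    rcases hwz hi with h2 | h2
    · rw [h2, one_mul] at h1
      have h3 : (i : G → ℂ) ≠ 1 := fun h4 => hi0 (Subtype.ext h4)
      apply h.t_ne
      apply eq_one_of_apply_eq i.2 h3
      rw [hw i, hf i, h2]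
      have : f i = 1 := by exact_mod_cast h1
      rw [this]; norm_num
    · rw [h2] at h1
      have := hf0 i
      omega
  have hsqf : ∀ {i : IrrCharacter G}, w i ^ 2 = 1 → (w i * (f i : ℤ)) ^ 2 = (f i : ℤ) ^ 2 := by
    intro i hi
    rw [mul_pow, hi, one_mul]
  have hfc : ∀ i : IrrCharacter G, (f i : ℂ) ≠ 0 := fun i => by
    exact_mod_cast (hf0 i).ne'
  have := arith (a := w i1 * f i1) (b := w i2 * f i2) (c := w i3 * f i3) (g := Nat.card G)
    (hmod' hwi1) (hmod' hwi2) (hmod' hwi3) (hne1 hi1 hwi1) (hne1 h20 hwi2) (hne1 h30 hwi3) ?_ ?_ ?_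
  · exact_mod_cast this
  · have h1 : (((w i1 * f i1 + w i2 * f i2 + w i3 * f i3 : ℤ)) : ℂ) = ((-1 : ℤ) : ℂ) := by
      push_cast
      linear_combination hg1
    exact_mod_cast h1
  · have e1 : ∀ {i : IrrCharacter G}, w i ^ 2 = 1 → (w i : ℂ) / f i = 1 / (w i * f i) := by
      intro i hi
      have hwi0 : (w i : ℂ) ≠ 0 := by
        intro h0
        have := hwc hi
        rw [h0] at this
        norm_num at this
      rw [div_eq_div_iff (hfc i) (mul_ne_zero hwi0 (hfc i))]
      linear_combination (f i : ℂ) * hwc hi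
    rw [e1 hwi1, e1 hwi2, e1 hwi3] at hg2
    have nz : ∀ {i : IrrCharacter G}, w i ^ 2 = 1 → (w i : ℂ) * f i ≠ 0 := by
      intro i hi
      refine mul_ne_zero ?_ (hfc i)
      intro h0
      have := hwc hi
      rw [h0] at this
      norm_num at this
    have n1 := nz hwi1
    have n2 := nz hwi2
    have n3 := nz hwi3
    set a : ℂ := (w i1 : ℂ) * f i1
    set b : ℂ := (w i2 : ℂ) * f i2
    set c : ℂ := (w i3 : ℂ) * f i3
    have h2 : (Nat.card G : ℂ) * (a * b * c + a * b + b * c + a * c) = 32 * (a * b * c) := by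
      rw [← hg2]
      field_simp
      ring
    have h3 : (((Nat.card G : ℤ) * ((w i1 * f i1) * (w i2 * f i2) * (w i3 * f i3) +
      (w i1 * f i1) * (w i2 * f i2) + (w i2 * f i2) * (w i3 * f i3) +
      (w i1 * f i1) * (w i3 * f i3)) : ℤ) : ℂ) =
      ((32 * ((w i1 * f i1) * (w i2 * f i2) * (w i3 * f i3)) : ℤ) : ℂ) := by
      push_cast
      exact h2
    exact_mod_cast h3
  · rw [hsqf hwi1, hsqf hwi2, hsqf hwi3]
    exact hg3

/-- The case `|A| = 2`. -/
theorem psl_of_card_two (hA : Nat.card A = 2) :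
    ∃ (F : Type) (_ : Field F) (_ : Fintype F), Odd (Fintype.card F) ∧
      Nonempty (G ≃* Matrix.ProjectiveSpecialLinearGroup (Fin 2) F) := by
  obtain ⟨F, i1, i2, hF, e⟩ := Cfsg.Agent.SmallSimple.PRQb.psl_five_of_card (card_sixty h hA)
  exact ⟨F, i1, i2, by rw [hF]; decide, e⟩

end

end Cfsg.Agent.Classification.BSW.Four
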