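import Cfsg.Agent.Classification.BSW.CharMain
import Cfsg.Agent.Classification.BSW.CharTools
import Cfsg.Agent.Classification.BSW.Cent

/-!
# Counting elements by their centralisers
-/

set_option autoImplicit false

open scoped ComplexConjugate
open Cfsg

namespace Cfsg.Agent.Classification.BSW.Count

open Cfsg.Agent.Characters.Core
open Cfsg.Agent.Classification.BSW.Setup Cfsg.Agent.Classification.BSW.Cent
open Cfsg.Agent.Classification.BSW.CharTools Subgroup

variable {G : Type*} [Group G] [Fintype G]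

/-- Outcome of the character-theoretic part. -/
structure Out (A : Subgroup G) (φ : G → ℂ) (δ q : ℤ) : Prop where
  irr : IsIrrCharacter G φ
  ne : φ ≠ 1
  hδ : δ = 1 ∨ δ = -1
  hq : q = 2 * Nat.card A + δ
  m4 : 4 ≤ Nat.card A
  even : Even (Nat.card A)
  one : φ 1 = q
  onA : ∀ a ∈ A, a ≠ 1 → φ a = δ
  num : 2 * (numInv G : ℤ) = q * (q + δ)
  beta : ∀ d : G, ¬ ConjIn A d → (2 : ℂ) * beta d = (1 + δ) * q + (q - 1) * φ d

theorem exists_out {A : Subgroup G} {t s : G} (h : BSWData A t s) (hm : 4 ≤ Nat.card A) :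
    ∃ (φ : G → ℂ) (δ q : ℤ), Out A φ δ q := by
  obtain ⟨φ, δ, h1, h2, h3, h4, h5, h6, h7⟩ := CharMain.main h hm
  refine ⟨φ, δ, 2 * Nat.card A + δ, h1, h2, h3, rfl, hm, ?_, ?_, h5, ?_, ?_⟩
  · have h3 : orderOf (⟨t, h.t_mem⟩ : A) = 2 :=
      orderOf_eq_prime (by rw [pow_two]; exact Subtype.ext h.t_sq)
        (fun h1 => h.t_ne (congrArg Subtype.val h1))
    have := orderOf_dvd_natCard (⟨t, h.t_mem⟩ : A)
    rw [h3] at this
    exact even_iff_two_dvd.2 this
  · rw [h4]; push_cast; ring
  · rw [h6]; ring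
  · intro d hd
    rw [h7 d hd]; push_cast; ring

section

variable {A : Subgroup G} {t s : G} (h : BSWData A t s) {φ : G → ℂ} {δ q : ℤ} (o : Out A φ δ q)
include h o

omit h in
theorem q_ge : 7 ≤ q ∧ (δ = 1 → 9 ≤ q) := by
  have h1 := o.m4
  have h2 := o.hq
  rcases o.hδ with h3 | h3
  · subst h3; constructor <;> intros <;> omega
  · subst h3
    constructor
    · omega
    · intro h4; norm_num at h4

omit h in
theorem q_odd : Odd q := by
  rw [o.hq]
  rcases o.hδ with h3 | h3 <;> subst h3
  · exact ⟨Nat.card A, by ring⟩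
  · exact ⟨Nat.card A - 1, by ring⟩

omit h in
theorem exists_int (d : G) (hd : ¬ ConjIn A d) :
    ∃ c : ℤ, φ d = c ∧ 2 * (beta d : ℤ) = (1 + δ) * q + (q - 1) * c := by
  have h1 := o.beta d hd
  have hq := (q_ge o).1
  have hq1 : ((q : ℂ) - 1) ≠ 0 := by
    intro h0
    have : ((q - 1 : ℤ) : ℂ) = ((0 : ℤ) : ℂ) := by push_cast; exact h0
    have : q - 1 = 0 := by exact_mod_cast this
    omega
  have h2 : φ d = (((2 * (beta d : ℚ) - (1 + δ) * q) / (q - 1) : ℚ) : ℂ) := by
    push_cast
    rw [eq_div_iff hq1]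
    linear_combination -h1
  obtain ⟨c, hc⟩ := exists_int_of_rat (isIrr_isCharacter o.irr) d ⟨_, h2⟩
  refine ⟨c, hc, ?_⟩
  rw [hc] at h1
  exact_mod_cast h1

/-- `φ` is constant on the nontrivial elements of `C(d)` when `β(d) ≠ 0`. -/
theorem phi_const {d : G} (hd : ¬ ConjIn A d) {u : G} (hu1 : u ≠ 1) (hu2 : u * u = 1)
    (hud : u * d * u⁻¹ = d⁻¹) {y : G} (hy : y * d = d * y) (hy1 : y ≠ 1) : φ y = φ d := by
  have hy' := not_conjIn_of_commute h hd hy hy1
  have huy := inverts h hd hu1 hu2 hud hy
  have h1 := beta_eq_card h hd hu1 hu2 hud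
  have h2 := beta_eq_card h hy' hu1 hu2 huy
  rw [cent_eq h hd hu1 hu2 hud hy hy1, ← h1] at h2
  have h3 := o.beta d hd
  have h4 := o.beta y hy'
  rw [h2, h3] at h4
  have hq := (q_ge o).1
  have hq1 : ((q : ℂ) - 1) ≠ 0 := by
    intro h0
    have : ((q - 1 : ℤ) : ℂ) = ((0 : ℤ) : ℂ) := by push_cast; exact h0
    have : q - 1 = 0 := by exact_mod_cast this
    omega
  have h5 : ((q : ℂ) - 1) * φ y = ((q : ℂ) - 1) * φ d := by linear_combination -h4
  exact mul_left_cancel₀ hq1 h5

/-- The main case distinction. -/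
theorem cases [IsSimpleGroup G] {d : G} (hd : ¬ ConjIn A d) :
    (φ d = -δ ∧ 2 * (Nat.card (centralizer ({d} : Set G)) : ℤ) = q + δ ∧ Setup.beta d ≠ 0) ∨
    (φ d = 0 ∧ (δ = 1 → Setup.beta d ≠ 0) ∧ (δ = -1 → Setup.beta d = 0)) := by
  obtain ⟨c, hc, hb⟩ := exists_int o d hd
  have hd1 : d ≠ 1 := by rintro rfl; exact hd (conjIn_one A)
  obtain ⟨hq7, hq9⟩ := q_ge o
  by_cases hbd : Setup.beta d = 0
  · rw [hbd] at hb
    rcases o.hδ with h3 | h3
    · exfalso
      have h9 := hq9 h3
      subst h3
      push_cast at hb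
      -- 0 = 2 q + (q - 1) c
      have h10 : (q - 1) * (c + 2) = -2 := by linarith
      have h11 : (q - 1) ∣ 2 := by
        rw [← dvd_neg, ← h10]; exact Dvd.intro _ rfl
      have := Int.le_of_dvd (by norm_num) h11
      omega
    · right
      subst h3
      push_cast at hb
      have h10 : (q - 1) * c = 0 := by linarith
      have h11 : c = 0 := (mul_eq_zero.1 h10).resolve_left (by omega)
      refine ⟨by rw [hc, h11]; simp, ?_, fun _ => hbd⟩
      intro h12; norm_num at h12
  · obtain ⟨u, hu1, hu2, hud⟩ := exists_inverting h hd hbd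
    have hcard := beta_eq_card h hd hu1 hu2 hud
    have hdvd : (Nat.card (centralizer ({d} : Set G)) : ℤ) ∣ q - c := by
      refine dvd_of_const (isIrr_isCharacter o.irr) _ q c o.one ?_
      intro x hx hx1
      rw [mem_cent_iff] at hx
      rw [phi_const h o hd hu1 hu2 hud hx hx1, hc]
    have hle : c ≤ q := le_of_int (isIrr_isCharacter o.irr) d q c o.one hc
    have hne : c ≠ q := by
      intro h1
      apply hd1
      apply eq_one_of_apply_eq o.irr o.ne
      rw [hc, o.one, h1]
    have hD : (Nat.card (centralizer ({d} : Set G)) : ℤ) ≤ q - c :=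
      Int.le_of_dvd (by omega) hdvd
    have hD1 : 1 < Nat.card (centralizer ({d} : Set G)) := by
      have hnt : Nontrivial (centralizer ({d} : Set G)) :=
        ⟨⟨⟨d, (mem_cent_iff _ _).2 rfl⟩, 1, fun h1 => hd1 (congrArg Subtype.val h1)⟩⟩
      exact Finite.one_lt_card
    rw [hcard] at hb
    set D := (Nat.card (centralizer ({d} : Set G)) : ℤ) with hDdef
    have hD1' : 1 < D := by rw [hDdef]; exact_mod_cast hD1
    rcases o.hδ with h3 | h3
    · have h9 := hq9 h3
      subst h3
      have hb' : 2 * D = 2 * q + (q - 1) * c := by linarith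
      have hc0 : c ≤ 0 := by
        by_contra hc0
        push Not at hc0
        nlinarith
      have hc1 : -1 ≤ c := by
        by_contra hc1
        push Not at hc1
        nlinarith
      have : c = 0 ∨ c = -1 := by omega
      rcases this with h4 | h4
      · right
        refine ⟨by rw [hc, h4]; simp, fun _ => hbd, ?_⟩
        intro h12; norm_num at h12
      · left
        refine ⟨by rw [hc, h4]; simp, ?_, hbd⟩
        rw [h4] at hb'; linarith
    · subst h3
      have hb' : 2 * D = (q - 1) * c := by linarith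
      have hc0 : 0 < c := by
        by_contra hc0
        push Not at hc0
        nlinarith
      have hc1 : c < 2 := by
        by_contra hc1
        push Not at hc1
        nlinarith
      have h4 : c = 1 := by omega
      left
      refine ⟨by rw [hc, h4]; simp, ?_, hbd⟩
      rw [h4] at hb'; linarith

/-- the set `T` -/
def InT (A : Subgroup G) (φ : G → ℂ) (x : G) : Prop := ¬ ConjIn A x ∧ φ x = 0

omit [Fintype G] h o in
theorem inT_iff (x : G) : InT A φ x ↔ ¬ ConjIn A x ∧ φ x = 0 := Iff.rfl

omit [Fintype G] h o in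
theorem InT.ne_one {x : G} (hx : InT A φ x) : x ≠ 1 := by
  rintro rfl
  exact hx.1 (conjIn_one A)

omit h in
theorem inT_conj {x : G} (k : G) : InT A φ (k * x * k⁻¹) ↔ InT A φ x := by
  rw [inT_iff, inT_iff, conjIn_conj, isIrr_isClassFunction o.irr x k]

omit h in
theorem inT_inv {x : G} : InT A φ x⁻¹ ↔ InT A φ x := by
  rw [inT_iff, inT_iff, conjIn_inv, isCharacter_apply_inv (isIrr_isCharacter o.irr)]
  simp

open scoped Classical in
theorem card_T [IsSimpleGroup G] :
    ((Finset.univ.filter (fun x : G => InT A φ x)).card : ℤ) = q ^ 2 - 1 := by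
  -- the set `R`
  set R := Finset.univ.filter (fun x : G => ¬ ConjIn A x ∧ ¬ φ x = 0) with hR
  set S := Finset.univ.filter (fun x : G => InT A φ x) with hS
  set U := Finset.univ.filter (fun x : G => x ≠ 1 ∧ ConjIn A x) with hU
  have hUc : U.card = numInv G * (Nat.card A - 1) := h.card_conjIn
  have hsplit : ∀ F : G → ℂ, ∑ x : G, F x = F 1 + ∑ x ∈ U, F x + ∑ x ∈ R, F x + ∑ x ∈ S, F x := by
    intro F
    rw [← Finset.add_sum_erase Finset.univ F (Finset.mem_univ 1)]
    rw [add_assoc, add_assoc]
    congr 1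
    have e1 : Finset.univ.erase (1 : G) = U ∪ (R ∪ S) := by
      ext x
      simp only [Finset.mem_erase, Finset.mem_union, hU, hR, hS, Finset.mem_filter,
        Finset.mem_univ, true_and, and_true, inT_iff]
      constructor
      · intro hx
        by_cases h1 : ConjIn A x
        · left; exact ⟨hx, h1⟩
        · right
          by_cases h2 : φ x = 0
          · right; exact ⟨h1, h2⟩
          · left; exact ⟨h1, h2⟩
      · rintro (h1 | h1 | h1)
        · exact h1.1
        · rintro rfl; exact h1.1 (conjIn_one A)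
        · rintro rfl; exact h1.1 (conjIn_one A)
    have d1 : Disjoint U (R ∪ S) := by
      rw [Finset.disjoint_left]
      intro x hx hx'
      rw [Finset.mem_union, hR, hS, Finset.mem_filter, Finset.mem_filter] at hx'
      rw [hU, Finset.mem_filter] at hx
      rcases hx' with h1 | h1
      · exact h1.2.1 hx.2.2
      · exact h1.2.1 hx.2.2
    have d2 : Disjoint R S := by
      rw [Finset.disjoint_left]
      intro x hx hx'
      rw [hS, Finset.mem_filter] at hx'
      rw [hR, Finset.mem_filter] at hx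
      exact hx.2.2 hx'.2.2
    rw [e1, Finset.sum_union d1, Finset.sum_union d2]
  have h1 := hsplit φ
  rw [sum_eq_zero o.irr o.ne, o.one] at h1
  have hUφ : ∑ x ∈ U, φ x = U.card * δ := by
    rw [Finset.sum_congr rfl (fun x hx => ?_), Finset.sum_const, nsmul_eq_mul]
    rw [hU, Finset.mem_filter] at hx
    obtain ⟨-, hx1, g, hg⟩ := hx
    rw [← isIrr_isClassFunction o.irr x g]
    apply o.onA _ hg
    intro h2
    apply hx1
    have : x = g⁻¹ * (g * x * g⁻¹) * g := by group
    rw [this, h2]; group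
  have hRφ : ∑ x ∈ R, φ x = R.card * (-δ) := by
    rw [Finset.sum_congr rfl (fun x hx => ?_), Finset.sum_const, nsmul_eq_mul]
    rw [hR, Finset.mem_filter] at hx
    rcases cases h o hx.2.1 with h2 | h2
    · exact h2.1
    · exact absurd h2.1 hx.2.2
  have hSφ : ∑ x ∈ S, φ x = 0 := by
    refine Finset.sum_eq_zero (fun x hx => ?_)
    rw [hS, Finset.mem_filter] at hx
    exact hx.2.2
  rw [hUφ, hRφ, hSφ] at h1
  have h2 := hsplit (fun _ => 1)
  simp only [Finset.sum_const, nsmul_eq_mul, mul_one, Finset.card_univ] at h2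
  have h1' : (0 : ℤ) = q + U.card * δ + R.card * (-δ) := by
    have : ((0 : ℤ) : ℂ) = ((q + U.card * δ + R.card * (-δ) : ℤ) : ℂ) := by
      push_cast; linear_combination h1
    exact_mod_cast this
  have h2' : (Fintype.card G : ℤ) = 1 + U.card + R.card + S.card := by exact_mod_cast h2
  have hg : (Fintype.card G : ℤ) = 2 * Nat.card A * numInv G := by
    have := h.card_eq
    rw [Nat.card_eq_fintype_card] at this
    exact_mod_cast this
  have hU' : (U.card : ℤ) = numInv G * (Nat.card A - 1) := by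
    rw [hUc]
    have : 1 ≤ Nat.card A := Nat.card_pos
    push_cast [Nat.cast_sub this]
    ring
  have hδ2 : δ * δ = 1 := by rcases o.hδ with h3 | h3 <;> rw [h3] <;> norm_num
  have h3 : (R.card : ℤ) = δ * q + U.card := by
    linear_combination δ * h1' + (U.card - R.card : ℤ) * hδ2
  have hnum := o.num
  rw [hg, h3, hU'] at h2'
  have hm : (2 * Nat.card A : ℤ) = q - δ := by rw [o.hq]; ring
  have h4 : (S.card : ℤ) = 2 * numInv G - 1 - δ * q := by linear_combination -h2'
  rw [h4, hnum]
  ring

end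

end Cfsg.Agent.Classification.BSW.Count
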