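import Cfsg.Agent.Classification.BSW.Good

/-!
# The order formula and the values of the Steinberg-like character
-/

set_option autoImplicit false

open scoped ComplexConjugate
open Cfsg

namespace Cfsg.Agent.Classification.BSW.Order

open Cfsg.Agent.Characters.Core Cfsg.Agent.Characters.Linear Cfsg.Agent.Characters.ClassMul
open Cfsg.Agent.Classification.BSW.Setup Cfsg.Agent.Classification.BSW.Theta
open Cfsg.Agent.Classification.BSW.BetaSum Cfsg.Agent.Classification.BSW.SqSum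
open Cfsg.Agent.Classification.BSW.Good

/-- the number theory -/
theorem arith {m N z δ : ℤ} (hδ : δ = 1 ∨ δ = -1) (hm : Even m) (hm4 : 4 ≤ m) (hN : Odd N)
    (hf : 0 < δ + m * z) (he : N * z ^ 2 = 2 * ((δ + m * z) * ((δ + m * z) + δ))) : z = 2 := by
  have hz0 : 0 ≤ z := by
    by_contra hz
    push Not at hz
    have : m * z ≤ -4 := by nlinarith
    rcases hδ with rfl | rfl <;> linarith
  have hz1 : z ≠ 0 := by
    rintro rfl
    rcases hδ with rfl | rfl <;> simp at he hf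
  have hδ2 : δ ^ 2 = 1 := by rcases hδ with rfl | rfl <;> norm_num
  have h4 : z * (N * z - 2 * m ^ 2 * z - 6 * δ * m) = 4 := by
    have : N * z ^ 2 = 2 * m ^ 2 * z ^ 2 + 6 * δ * m * z + 4 * δ ^ 2 := by
      rw [he]; ring
    rw [hδ2] at this
    linear_combination this
  have hdvd : z ∣ 4 := Dvd.intro _ h4
  have hz4 : z ≤ 4 := Int.le_of_dvd (by norm_num) hdvd
  obtain ⟨k, hk⟩ := hm
  obtain ⟨n, hn⟩ := hN
  have hz : z = 1 ∨ z = 2 ∨ z = 3 ∨ z = 4 := by omega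
  rcases hz with rfl | rfl | rfl | rfl
  · exfalso
    subst hk hn
    rcases hδ with rfl | rfl
    · have : 2 * n + 1 = 2 * ((k + k) ^ 2 + 3 * (k + k) + 2) := by linear_combination he
      omega
    · have : 2 * n + 1 = 2 * ((k + k) ^ 2 - 3 * (k + k) + 2) := by linear_combination he
      omega
  · rfl
  · norm_num at hdvd
  · exfalso
    subst hk hn
    rcases hδ with rfl | rfl
    · have : 4 * (2 * n + 1) = 4 * (8 * k ^ 2 + 3 * k) * 2 / 2 * 1 + 1 := by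
        have h5 : 4 * (2 * n + 1) - (2 * (k + k) ^ 2 * 4 + 6 * (k + k)) = 1 := by
          have := h4
          nlinarith
        have h6 : (4 * (8 * k ^ 2 + 3 * k) * 2 / 2 * 1 + 1 : ℤ) = 4 * (8 * k ^ 2 + 3 * k) + 1 := by
          omega
        rw [h6]
        nlinarith
      omega
    · have h5 : 4 * (2 * n + 1) - (2 * (k + k) ^ 2 * 4 - 6 * (k + k)) = 1 := by
        have := h4
        nlinarith
      have h7 : 4 * (2 * n + 1) - 4 * (8 * k ^ 2 - 3 * k) = 1 := by linear_combination h5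
      omega

variable {G : Type*} [Group G] [Fintype G] {A : Subgroup G} {t s : G} (h : BSWData A t s)
include h

variable [Fintype (IrrCharacter G)] [Fintype (A →* ℂˣ)]

/-- Stage 2 -/
theorem v_eq_delta (φ : IrrCharacter G) (δ : ℤ) (hδ : δ ^ 2 = 1)
    (hx : (δ : ℂ) * (φ : G → ℂ) t = 1) (hall : ∀ l : A →* ℂˣ, l * l ≠ 1 → v l φ = δ)
    (l : A →* ℂˣ) (hl : l ≠ 1) : v l φ = δ := by
  classical
  by_cases hll : l * l ≠ 1
  · exact hall l hll
  · push Not at hll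
    obtain ⟨τ, hτ1, hτ2, hτ⟩ := exists_tau h
    have hlτ : l = τ := (hτ l hll).resolve_left hl
    subst hlτ
    have h1 := char_t_eq h φ
    have h2 : ∀ m : A →* ℂˣ, (m ⟨t, h.t_mem⟩ : ℂ) * (v m φ : ℂ) =
        δ * (m ⟨t, h.t_mem⟩ : ℂ) - (if m = 1 then (δ : ℂ) else 0) +
        (if m = l then ((v l φ : ℂ) - δ) * (l ⟨t, h.t_mem⟩ : ℂ) else 0) := by
      intro m
      by_cases hm1 : m = 1
      · subst hm1
        rw [v_trivial, if_pos rfl, if_neg (Ne.symm hl)]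
        simp
      · rw [if_neg hm1]
        by_cases hml : m = l
        · subst hml
          rw [if_pos rfl]; ring
        · rw [if_neg hml, hall m ?_]
          · ring
          · intro h3
            rcases hτ m h3 with h4 | h4
            · exact hm1 h4
            · exact hml h4
    rw [Finset.sum_congr rfl (fun m _ => h2 m), Finset.sum_add_distrib, Finset.sum_sub_distrib,
      ← Finset.mul_sum, sum_hom_apply (comm_sub h), if_neg (T_ne h), Finset.sum_ite_eq',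
      Finset.sum_ite_eq', if_pos (Finset.mem_univ _), if_pos (Finset.mem_univ _)] at h1
    have hδ' : (δ : ℂ) ^ 2 = 1 := by exact_mod_cast hδ
    rw [h1] at hx
    have h5 : (δ : ℂ) * (((v l φ : ℂ) - δ) * (l ⟨t, h.t_mem⟩ : ℂ)) = 0 := by
      linear_combination -hx + hδ'
    have hδ0 : (δ : ℂ) ≠ 0 := by intro h0; rw [h0] at hδ'; norm_num at hδ'
    have hl0 : (l ⟨t, h.t_mem⟩ : ℂ) ≠ 0 := Units.ne_zero _
    have h6 : (v l φ : ℂ) - δ = 0 := by
      rcases mul_eq_zero.1 h5 with h7 | h7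
      · exact absurd h7 hδ0
      · rcases mul_eq_zero.1 h7 with h8 | h8
        · exact h8
        · exact absurd h8 hl0
    have : (v l φ : ℂ) = (δ : ℂ) := by linear_combination h6
    exact_mod_cast this

omit [Fintype (IrrCharacter G)] in
theorem phi_on_A (φ : IrrCharacter G) (δ : ℤ) (hall : ∀ l : A →* ℂˣ, l ≠ 1 → v l φ = δ)
    (a : G) (ha : a ∈ A) (ha1 : a ≠ 1) : (φ : G → ℂ) a = δ := by
  classical
  have hT : (⟨a, ha⟩ : A) ≠ 1 := fun h1 => ha1 (congrArg Subtype.val h1)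
  have h1 := char_eq h φ ⟨a, ha⟩ hT
  have h2 : ∀ m : A →* ℂˣ, (m ⟨a, ha⟩ : ℂ) * (v m φ : ℂ) =
      δ * (m ⟨a, ha⟩ : ℂ) - (if m = 1 then (δ : ℂ) else 0) := by
    intro m
    by_cases hm1 : m = 1
    · subst hm1
      rw [v_trivial, if_pos rfl]
      simp
    · rw [if_neg hm1, hall m hm1]; ring
  rw [Finset.sum_congr rfl (fun m _ => h2 m), Finset.sum_sub_distrib,
      ← Finset.mul_sum, sum_hom_apply (comm_sub h), if_neg hT, Finset.sum_ite_eq',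
      if_pos (Finset.mem_univ _)] at h1
  rw [show (φ : G → ℂ) a = (φ : G → ℂ) ((⟨a, ha⟩ : A) : G) from rfl, h1]
  ring

/-- the order relation -/
theorem kappa (hm : 4 ≤ Nat.card A) (φ : IrrCharacter G) (hφ : φ ≠ one) (δ : ℤ) (hδ : δ ^ 2 = 1)
    (hx : (δ : ℂ) * (φ : G → ℂ) t = 1) (hall : ∀ l : A →* ℂˣ, l ≠ 1 → v l φ = δ) :
    1 + (δ : ℂ) * (φ : G → ℂ) 1 ≠ 0 ∧
    (Nat.card G : ℂ) * (1 + 1 / ((δ : ℂ) * (φ : G → ℂ) 1) - 4 / (1 + (δ : ℂ) * (φ : G → ℂ) 1)) =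
      4 * (Nat.card A : ℂ) ^ 3 := by
  obtain ⟨m, hmt, hmm⟩ := exists_mu h (by omega)
  have hm1 : m ≠ 1 := by rintro rfl; exact hmm one_mul_one'
  obtain ⟨ψ, p1, p2, p3, p4, p5, p6, p7, p8⟩ := rel h m hmm φ hφ (by rw [hall m hm1]; exact hδ)
  rw [hall m hm1] at p6 p7 p8
  rw [hx, hmt] at p7
  have hY0 : (v m ψ : ℂ) * (ψ : G → ℂ) 1 ≠ 0 := by
    refine mul_ne_zero ?_ (isIrr_apply_one_ne_zero ψ.2)
    intro h0
    have : v m ψ = 0 := by exact_mod_cast h0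
    rw [this] at p3
    norm_num at p3
  have hY : (v m ψ : ℂ) * (ψ : G → ℂ) 1 = -(1 + (δ : ℂ) * (φ : G → ℂ) 1) := by
    linear_combination p6
  have hX1 : 1 + (δ : ℂ) * (φ : G → ℂ) 1 ≠ 0 := by
    intro h0
    rw [h0, neg_zero] at hY
    exact hY0 hY
  refine ⟨hX1, ?_⟩
  rw [← p8, hx, hY]
  have hy : (v m ψ : ℂ) * (ψ : G → ℂ) t = 2 := by linear_combination p7
  rw [hy]
  congr 1
  rw [div_neg]
  ring

/-- the functional `L_l` -/
theorem L_formula (hm : 4 ≤ Nat.card A) (φ : IrrCharacter G) (hφ : φ ≠ one) (δ : ℤ)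
    (hδ : δ ^ 2 = 1) (hx : (δ : ℂ) * (φ : G → ℂ) t = 1)
    (hall : ∀ l : A →* ℂˣ, l ≠ 1 → v l φ = δ) (d : G) (hd : ¬ ConjIn A d)
    (l : A →* ℂˣ) (hl : l ≠ 1) :
    ∑ χ : IrrCharacter G, (v l χ : ℂ) * ((χ : G → ℂ) t * (χ : G → ℂ) d / (χ : G → ℂ) 1) =
      1 + ((δ : ℂ) * (φ : G → ℂ) d) / ((δ : ℂ) * (φ : G → ℂ) 1) -
      2 * (l ⟨t, h.t_mem⟩ : ℂ) * (1 + (δ : ℂ) * (φ : G → ℂ) d) /
        (1 + (δ : ℂ) * (φ : G → ℂ) 1) := by
  classical
  obtain ⟨hX1, hκ⟩ := kappa h hm φ hφ δ hδ hx hall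
  have hg : (Nat.card G : ℂ) ≠ 0 := card_ne_zero_complex
  have hδ' : (δ : ℂ) ^ 2 = 1 := by exact_mod_cast hδ
  have hδ0 : (δ : ℂ) ≠ 0 := by intro h0; rw [h0] at hδ'; norm_num at hδ'
  have hf0 : (φ : G → ℂ) 1 ≠ 0 := isIrr_apply_one_ne_zero φ.2
  have hφt : (φ : G → ℂ) t = δ := by linear_combination (δ : ℂ) * hx - (φ : G → ℂ) t * hδ'
  have hθd : ∀ m : A →* ℂˣ, ∑ χ : IrrCharacter G, (v m χ : ℂ) * (χ : G → ℂ) d = 0 := by
    intro m
    rw [← theta_eq_sum]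
    exact theta_eq_zero m (fun h1 => hd h1.2)
  by_cases hll : l * l ≠ 1
  · obtain ⟨ψ, p1, p2, p3, p4, p5, p6, p7, p8⟩ := rel h l hll φ hφ (by rw [hall l hl]; exact hδ)
    have e1 := hθd l
    rw [p5 (fun χ => (χ : G → ℂ) d)] at e1
    rw [p5 (fun χ => (χ : G → ℂ) t * (χ : G → ℂ) d / (χ : G → ℂ) 1)]
    rw [hall l hl] at p6 p7 e1 ⊢
    rw [hx] at p7
    simp only [one_apply] at e1 ⊢
    have e2 : ((v l ψ : ℤ) : ℂ) ^ 2 = 1 := by exact_mod_cast p3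
    have e3 : (v l ψ : ℂ) ≠ 0 := by intro h0; rw [h0] at e2; norm_num at e2
    have e4 : (ψ : G → ℂ) 1 ≠ 0 := isIrr_apply_one_ne_zero ψ.2
    have hψ1 : (ψ : G → ℂ) 1 = -(v l ψ : ℂ) * (1 + δ * (φ : G → ℂ) 1) := by
      linear_combination (v l ψ : ℂ) * p6 - (ψ : G → ℂ) 1 * e2
    have hψt : (ψ : G → ℂ) t = -2 * (v l ψ : ℂ) * (l ⟨t, h.t_mem⟩ : ℂ) := by
      linear_combination (v l ψ : ℂ) * p7 - (ψ : G → ℂ) t * e2
    have hψd : (ψ : G → ℂ) d = -(v l ψ : ℂ) * (1 + δ * (φ : G → ℂ) d) := by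
      linear_combination (v l ψ : ℂ) * e1 - (ψ : G → ℂ) d * e2
    rw [hψ1, hψt, hψd, hφt]
    have r1 : (v l ψ : ℂ) * (-2 * (v l ψ : ℂ) * (l ⟨t, h.t_mem⟩ : ℂ) *
        (-(v l ψ : ℂ) * (1 + δ * (φ : G → ℂ) d)) / (-(v l ψ : ℂ) * (1 + δ * (φ : G → ℂ) 1))) =
        -(2 * (l ⟨t, h.t_mem⟩ : ℂ) * (1 + δ * (φ : G → ℂ) d) / (1 + δ * (φ : G → ℂ) 1)) := by
      field_simp
      linear_combination (-(1 + δ * (φ : G → ℂ) d)) * e2
    have r3 : (δ : ℂ) * (δ * (φ : G → ℂ) d / (φ : G → ℂ) 1) =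
        (δ * (φ : G → ℂ) d) / (δ * (φ : G → ℂ) 1) := by
      field_simp
      linear_combination (φ : G → ℂ) d * hδ'
    rw [r1, r3]
    ring
  · push Not at hll
    obtain ⟨ψ3, ψ4, p1, p2, p3, p4, p5, p6, p7, p8, p9⟩ := fourth
      (fun χ : IrrCharacter G => v l χ) one φ hφ (v_one l hl) (by rw [hall l hl]; exact hδ)
      (norm_four h l hl hll)
    -- `v m ψ3 = v m ψ4 = 0` for `m * m ≠ 1`
    have hz : ∀ m : A →* ℂˣ, m * m ≠ 1 → v m ψ3 = 0 ∧ v m ψ4 = 0 := by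
      intro m hmm
      have hm1 : m ≠ 1 := by rintro rfl; exact hmm one_mul_one'
      have hlm : l ≠ m := by rintro rfl; exact hmm hll
      have hlm' : l * m ≠ 1 := by
        intro h1
        apply hlm
        ext a
        have h2 := DFunLike.congr_fun h1 a
        have h3 := DFunLike.congr_fun hll a
        rw [MonoidHom.mul_apply, MonoidHom.one_apply] at h2 h3
        have : l a = m a := mul_left_cancel (h3.trans h2.symm)
        rw [this]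
      have h1 := sum_v_mul_v h l m hl hm1
      rw [if_neg hlm, if_neg hlm'] at h1
      have h2 := p9 (fun χ => (v m χ : ℂ))
      have h2' : ∑ χ : IrrCharacter G, v l χ * v m χ = v m one + v l φ * v m φ +
          v l ψ3 * v m ψ3 + v l ψ4 * v m ψ4 := by exact_mod_cast h2
      rw [h1, v_one m hm1, hall l hl, hall m hm1] at h2'
      have h3 : v l ψ3 * v m ψ3 + v l ψ4 * v m ψ4 = 0 := by nlinarith
      obtain ⟨ω, r1, r2, r3, r4, -⟩ := rel h m hmm φ hφ (by rw [hall m hm1]; exact hδ)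
      have hne3 : v l ψ3 ≠ 0 := by intro h0; rw [h0] at p6; norm_num at p6
      have hne4 : v l ψ4 ≠ 0 := by intro h0; rw [h0] at p7; norm_num at p7
      by_cases h4 : ψ3 = ω
      · have h5 : v m ψ4 = 0 := r4 ψ4 p3 p4 (by rw [← h4]; exact Ne.symm p5)
        rw [h5, mul_zero, add_zero] at h3
        exact ⟨(mul_eq_zero.1 h3).resolve_left hne3, h5⟩
      · have h5 : v m ψ3 = 0 := r4 ψ3 p1 p2 h4
        rw [h5, mul_zero, zero_add] at h3
        exact ⟨h5, (mul_eq_zero.1 h3).resolve_left hne4⟩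
    have hval : ∀ ψ : IrrCharacter G, (∀ m : A →* ℂˣ, m * m ≠ 1 → v m ψ = 0) →
        (ψ : G → ℂ) t = -(l ⟨t, h.t_mem⟩ : ℂ) * (v l ψ : ℂ) := by
      intro ψ hψ
      rw [char_t_eq h ψ]
      obtain ⟨τ, hτ1, hτ2, hτ⟩ := exists_tau h
      have hlτ : l = τ := (hτ l hll).resolve_left hl
      have h1 : ∀ m : A →* ℂˣ, (m ⟨t, h.t_mem⟩ : ℂ) * (v m ψ : ℂ) =
          if m = l then (l ⟨t, h.t_mem⟩ : ℂ) * (v l ψ : ℂ) else 0 := by
        intro m
        by_cases hml : m = l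
        · rw [if_pos hml, hml]
        · rw [if_neg hml]
          by_cases hm1 : m = 1
          · rw [hm1, v_trivial]; simp
          · rw [hψ m]
            · simp
            · intro h3
              rcases hτ m h3 with h4 | h4
              · exact hm1 h4
              · exact hml (h4.trans hlτ.symm)
      rw [Finset.sum_congr rfl (fun m _ => h1 m), Finset.sum_ite_eq', if_pos (Finset.mem_univ _)]
      ring
    have h3t := hval ψ3 (fun m hmm => (hz m hmm).1)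
    have h4t := hval ψ4 (fun m hmm => (hz m hmm).2)
    have q1 : (0 : ℂ) = 1 + δ * (φ : G → ℂ) 1 + (v l ψ3 : ℂ) * (ψ3 : G → ℂ) 1 +
        (v l ψ4 : ℂ) * (ψ4 : G → ℂ) 1 := by
      have := p9 (fun χ => (χ : G → ℂ) 1)
      rw [← theta_eq_sum l (1 : G), theta_eq_zero l (by simp), hall l hl] at this
      exact this
    have q2 := hθd l
    rw [p9 (fun χ => (χ : G → ℂ) d), hall l hl] at q2
    simp only [one_apply] at q2
    have q3 := sum_v_beta h l hl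
    rw [p9 (fun χ => (χ : G → ℂ) t ^ 2 / (χ : G → ℂ) 1), hall l hl] at q3
    simp only [one_apply] at q3
    rw [p9 (fun χ => (χ : G → ℂ) t * (χ : G → ℂ) d / (χ : G → ℂ) 1), hall l hl]
    simp only [one_apply]
    have e3 : ((v l ψ3 : ℤ) : ℂ) ^ 2 = 1 := by exact_mod_cast p6
    have e4 : ((v l ψ4 : ℤ) : ℂ) ^ 2 = 1 := by exact_mod_cast p7
    have f3 : (v l ψ3 : ℂ) ≠ 0 := by intro h0; rw [h0] at e3; norm_num at e3
    have f4 : (v l ψ4 : ℂ) ≠ 0 := by intro h0; rw [h0] at e4; norm_num at e4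
    have g3 : (ψ3 : G → ℂ) 1 ≠ 0 := isIrr_apply_one_ne_zero ψ3.2
    have g4 : (ψ4 : G → ℂ) 1 ≠ 0 := isIrr_apply_one_ne_zero ψ4.2
    have hl2 := l_t_sq h l
    -- the two degrees agree
    set Z3 := (v l ψ3 : ℂ) * (ψ3 : G → ℂ) 1 with hZ3
    set Z4 := (v l ψ4 : ℂ) * (ψ4 : G → ℂ) 1 with hZ4
    set X := (δ : ℂ) * (φ : G → ℂ) 1 with hX
    have hZ30 : Z3 ≠ 0 := mul_ne_zero f3 g3
    have hZ40 : Z4 ≠ 0 := mul_ne_zero f4 g4
    have hX0 : X ≠ 0 := mul_ne_zero hδ0 hf0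
    have hψ31 : (ψ3 : G → ℂ) 1 = (v l ψ3 : ℂ) * Z3 := by
      linear_combination (-(v l ψ3 : ℂ)) * hZ3 - (ψ3 : G → ℂ) 1 * e3
    have hψ41 : (ψ4 : G → ℂ) 1 = (v l ψ4 : ℂ) * Z4 := by
      linear_combination (-(v l ψ4 : ℂ)) * hZ4 - (ψ4 : G → ℂ) 1 * e4
    have hφ1 : (φ : G → ℂ) 1 = δ * X := by
      linear_combination (-(δ : ℂ)) * hX - (φ : G → ℂ) 1 * hδ'
    have q4 : 1 / Z3 + 1 / Z4 = -4 / (1 + X) := by
      have h1 := mul_left_cancel₀ hg (q3.trans hκ.symm)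
      rw [h3t, h4t, hφt, hψ31, hψ41, hφ1] at h1
      have a1 : (v l ψ3 : ℂ) * ((-(l ⟨t, h.t_mem⟩ : ℂ) * (v l ψ3 : ℂ)) ^ 2 / ((v l ψ3 : ℂ) * Z3)) =
          1 / Z3 := by
        field_simp
        linear_combination (l ⟨t, h.t_mem⟩ : ℂ) ^ 2 * e3 + hl2
      have a2 : (v l ψ4 : ℂ) * ((-(l ⟨t, h.t_mem⟩ : ℂ) * (v l ψ4 : ℂ)) ^ 2 / ((v l ψ4 : ℂ) * Z4)) =
          1 / Z4 := by
        field_simp
        linear_combination (l ⟨t, h.t_mem⟩ : ℂ) ^ 2 * e4 + hl2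
      have a3 : (δ : ℂ) * ((δ : ℂ) ^ 2 / (δ * X)) = 1 / X := by
        field_simp
        linear_combination hδ'
      rw [a1, a2, a3] at h1
      rw [neg_div]
      linear_combination h1
    have q5 : Z3 = Z4 := by
      have h1 : Z3 + Z4 = -(1 + X) := by linear_combination -q1
      field_simp at q4
      have h2 : (Z3 - Z4) ^ 2 = 0 := by
        have h3 : (1 + X) * (Z3 + Z4) = -4 * (Z3 * Z4) := by linear_combination q4
        have h4 : 1 + X = -(Z3 + Z4) := by linear_combination h1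
        rw [h4] at h3
        linear_combination -h3
      have := pow_eq_zero_iff (two_ne_zero) |>.1 h2
      linear_combination this
    have q6 : Z3 = -(1 + X) / 2 := by
      rw [← q5] at q1
      linear_combination -q1 / 2
    rw [h3t, h4t, hφt, hψ31, hψ41, hφ1, ← q5]
    have q7 : (v l ψ3 : ℂ) * (ψ3 : G → ℂ) d + (v l ψ4 : ℂ) * (ψ4 : G → ℂ) d =
        -(1 + δ * (φ : G → ℂ) d) := by linear_combination q2
    have r1 : (v l ψ3 : ℂ) * (-(l ⟨t, h.t_mem⟩ : ℂ) * (v l ψ3 : ℂ) * (ψ3 : G → ℂ) d /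
        ((v l ψ3 : ℂ) * Z3)) = -(l ⟨t, h.t_mem⟩ : ℂ) * ((v l ψ3 : ℂ) * (ψ3 : G → ℂ) d) / Z3 := by
      field_simp
    have r2 : (v l ψ4 : ℂ) * (-(l ⟨t, h.t_mem⟩ : ℂ) * (v l ψ4 : ℂ) * (ψ4 : G → ℂ) d /
        ((v l ψ4 : ℂ) * Z3)) = -(l ⟨t, h.t_mem⟩ : ℂ) * ((v l ψ4 : ℂ) * (ψ4 : G → ℂ) d) / Z3 := by
      field_simp
    have r3 : (δ : ℂ) * (δ * (φ : G → ℂ) d / (δ * X)) = (δ * (φ : G → ℂ) d) / X := by
      field_simp
    rw [r1, r2, r3]
    have r4 : -(l ⟨t, h.t_mem⟩ : ℂ) * ((v l ψ3 : ℂ) * (ψ3 : G → ℂ) d) / Z3 +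
        -(l ⟨t, h.t_mem⟩ : ℂ) * ((v l ψ4 : ℂ) * (ψ4 : G → ℂ) d) / Z3 =
        -2 * (l ⟨t, h.t_mem⟩ : ℂ) * (1 + δ * (φ : G → ℂ) d) / (1 + X) := by
      rw [← add_div, ← mul_add, q7, q6]
      field_simp
    linear_combination r4

end Cfsg.Agent.Classification.BSW.Order
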