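import Mathlib.RingTheory.IntegralDomain
import Cfsg.Agent.Classification.BSW.Setup
import Cfsg.Agent.Characters.Core
import Cfsg.Agent.Characters.Linear
import Cfsg.Agent.Characters.ClassMul
import Cfsg.Agent.OddOrderCharacters.InertiaAbelian
import Cfsg.Agent.S0150

/-!
# The generalised characters `θ_l = (1 - l)^G` in the Brauer-Suzuki-Wall configuration
-/

set_option autoImplicit false

open scoped ComplexConjugate
open Cfsg

namespace Cfsg.Agent.Classification.BSW.Theta

open Cfsg.Agent.Characters.Core Cfsg.Agent.Characters.Linear Cfsg.Agent.Characters.ClassMul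
open Cfsg.Agent.Classification.BSW.Setup

/-! ### Generalities -/

open scoped Classical in
/-- Sum over all linear characters. -/
theorem sum_hom_apply {B : Type*} [Group B] [Finite B] (hB : ∀ a b : B, a * b = b * a)
    [Fintype (B →* ℂˣ)] (a : B) :
    (∑ l : B →* ℂˣ, (l a : ℂ)) = if a = 1 then (Nat.card B : ℂ) else 0 := by
  let _ : CommGroup B := { ‹Group B› with mul_comm := hB }
  exact Cfsg.Agent.OddOrderCharacters.InertiaAbelian.sum_hom_apply a

theorem card_hom {B : Type*} [Group B] [Finite B] (hB : ∀ a b : B, a * b = b * a)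
    [Fintype (B →* ℂˣ)] : (Fintype.card (B →* ℂˣ) : ℂ) = Nat.card B := by
  have := sum_hom_apply hB (1 : B)
  simpa using this

open scoped Classical in
theorem sum_apply {B : Type*} [Group B] [Fintype B] (l : B →* ℂˣ) :
    (∑ a : B, (l a : ℂ)) = if l = 1 then (Nat.card B : ℂ) else 0 := by
  have h1 := sum_hom_units ((Units.coeHom ℂ).comp l)
  have h2 : ((Units.coeHom ℂ).comp l = 1) ↔ l = 1 := by
    constructor
    · intro h
      ext a
      have := DFunLike.congr_fun h a
      simpa using this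
    · rintro rfl
      ext a
      simp
  simp only [h2] at h1
  rw [Nat.card_eq_fintype_card]
  have h3 : (∑ a : B, (l a : ℂ)) = ∑ g, ((Units.coeHom ℂ).comp l) g := rfl
  rw [h3, h1]
  split_ifs <;> simp

variable {G : Type*} [Group G] [Fintype G]

theorem conj_hom {B : Type*} [Group B] [Finite B] (l : B →* ℂˣ) (a : B) :
    conj (l a : ℂ) = ((l a)⁻¹ : ℂˣ) := by
  rw [← isCharacter_apply_inv (isCharacter_hom l) a, map_inv]

/-! ### Induction from the TI subgroup `A` -/

section ind

variable {A : Subgroup G} {t s : G} (h : BSWData A t s)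
include h

/-- Induction from `A` of a function vanishing at `1`, on `A`. -/
theorem indFun_apply_mem (α : A → ℂ) (hα : α 1 = 0) (a : A) :
    indFun A α (a : G) = α a + α a⁻¹ := by
  classical
  by_cases ha : a = 1
  · subst ha
    rw [indFun_apply]
    have h0 : ∑ x : G, extendByZero A α (x⁻¹ * ((1 : A) : G) * x) = 0 := by
      refine Finset.sum_eq_zero (fun x _ => ?_)
      have : x⁻¹ * ((1 : A) : G) * x = 1 := by simp
      rw [this, extendByZero_of_mem A α A.one_mem]
      exact hα
    rw [h0, inv_one, hα]; ring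
  · have ha1 : (a : G) ≠ 1 := fun h1 => ha (Subtype.ext h1)
    rw [indFun_apply]
    have h1 : ∀ x : G, extendByZero A α (x⁻¹ * a * x) =
        (if x ∈ A then α a else 0) + (if s * x ∈ A then α a⁻¹ else 0) := by
      intro x
      by_cases hx : x ∈ A
      · have hx2 : s * x ∉ A := h.s_mul_not_mem x hx
        rw [if_pos hx, if_neg hx2, add_zero]
        have h2 : x⁻¹ * a * x = a := by
          have := h.conj_eq_of_mem (inv_mem hx) a.2
          rwa [inv_inv] at this
        rw [h2, extendByZero_of_mem A α a.2]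
      · rw [if_neg hx, zero_add]
        by_cases hx2 : s * x ∈ A
        · rw [if_pos hx2]
          have h3 : x⁻¹ = x := by rw [inv_eq_iff_mul_eq_one, h.sq_of_s_mul_mem hx2]
          have h2 : x⁻¹ * a * x = (a⁻¹ : A) := by
            have := h.conj_eq_of_s_mul_mem hx2 a.2
            rw [h3] at this ⊢
            rw [this]; rfl
          rw [h2, extendByZero_of_mem A α (a⁻¹).2]
        · rw [if_neg hx2]
          refine extendByZero_of_notMem A α ?_
          intro h4
          rcases (h.conj_inv_mem_iff ha1 a.2).1 h4 with h5 | h5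
          · exact hx h5
          · exact hx2 h5
    rw [Finset.sum_congr rfl (fun x _ => h1 x), Finset.sum_add_distrib, ← Finset.sum_filter,
      ← Finset.sum_filter, Finset.sum_const, Finset.sum_const, card_mem, BSWData.card_smem, nsmul_eq_mul,
      nsmul_eq_mul]
    have hm : (Nat.card A : ℂ) ≠ 0 := card_ne_zero_complex
    field_simp

omit h in
theorem indFun_eq_zero (α : A → ℂ) (hα : α 1 = 0) {x : G} (hx : ¬ (x ≠ 1 ∧ ConjIn A x)) :
    indFun A α x = 0 := by
  rw [indFun_apply]
  have : ∑ y : G, extendByZero A α (y⁻¹ * x * y) = 0 := by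
    refine Finset.sum_eq_zero (fun y _ => ?_)
    by_cases hy : y⁻¹ * x * y ∈ A
    · rw [extendByZero_of_mem A α hy]
      by_cases hx1 : x = 1
      · subst hx1
        have : (⟨y⁻¹ * 1 * y, hy⟩ : A) = 1 := Subtype.ext (by simp)
        rw [this, hα]
      · exact absurd ⟨hx1, ⟨y⁻¹, by rwa [inv_inv]⟩⟩ hx
    · exact extendByZero_of_notMem A α hy
  rw [this, mul_zero]

omit h in
theorem indFun_isClass (α : A → ℂ) : IsClassFunction G (indFun A α) :=
  Cfsg.Agent.OddOrderCharacters.InertiaAbelian.indFun_isClassFunction A α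

end ind

/-! ### The functions `θ_l` -/

/-- `1 - l` on `A`. -/
noncomputable def al {A : Subgroup G} (l : A →* ℂˣ) : A → ℂ := fun a => 1 - (l a : ℂ)

theorem al_apply {A : Subgroup G} (l : A →* ℂˣ) (a : A) : al l a = 1 - (l a : ℂ) := rfl

theorem al_one {A : Subgroup G} (l : A →* ℂˣ) : al l 1 = 0 := by simp [al_apply]

/-- `θ_l = Ind (1 - l)`. -/
noncomputable def theta {A : Subgroup G} (l : A →* ℂˣ) : G → ℂ := indFun A (al l)

theorem theta_def {A : Subgroup G} (l : A →* ℂˣ) : theta l = indFun A (al l) := rfl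

theorem theta_class {A : Subgroup G} (l : A →* ℂˣ) : IsClassFunction G (theta l) :=
  indFun_isClass _

theorem exists_v {A : Subgroup G} (l : A →* ℂˣ) (χ : IrrCharacter G) :
    ∃ n : ℤ, classInner (theta l) (χ : G → ℂ) = n := by
  classical
  have h1 : classInner (theta l) (χ : G → ℂ) = classInner (al l) (fun x : A => (χ : G → ℂ) x) :=
    Cfsg.Agent.S0150.classInner_indFun A (al l) (χ : G → ℂ)
      (fun g k => isIrr_isClassFunction χ.2 g k)
  rw [h1]
  have hχ : IsCharacter A (fun x : A => (χ : G → ℂ) x) :=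
    isCharacter_comp A.subtype (isIrr_isCharacter χ.2)
  have h2 : al l = (1 : A → ℂ) - (fun a => (l a : ℂ)) := rfl
  rw [h2, classInner_sub_left]
  obtain ⟨n1, hn1⟩ := classInner_isNat isCharacter_one hχ
  obtain ⟨n2, hn2⟩ := classInner_isNat (isCharacter_hom l) hχ
  exact ⟨(n1 : ℤ) - n2, by rw [hn1, hn2]; push_cast; ring⟩

/-- multiplicities in `θ_l` -/
noncomputable def v {A : Subgroup G} (l : A →* ℂˣ) (χ : IrrCharacter G) : ℤ :=
  Classical.choose (exists_v l χ)

theorem v_spec {A : Subgroup G} (l : A →* ℂˣ) (χ : IrrCharacter G) :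
    classInner (theta l) (χ : G → ℂ) = v l χ := Classical.choose_spec (exists_v l χ)

theorem v_eq {A : Subgroup G} [Fintype A] (l : A →* ℂˣ) (χ : IrrCharacter G) :
    (v l χ : ℂ) = (Nat.card A : ℂ)⁻¹ * ∑ a : A, (1 - (l a : ℂ)) * conj ((χ : G → ℂ) a) := by
  rw [← v_spec]
  have h1 : classInner (theta l) (χ : G → ℂ) = classInner (al l) (fun x : A => (χ : G → ℂ) x) :=
    Cfsg.Agent.S0150.classInner_indFun A (al l) (χ : G → ℂ)
      (fun g k => isIrr_isClassFunction χ.2 g k)
  rw [h1]; rfl

theorem v_eq' {A : Subgroup G} [Fintype A] (l : A →* ℂˣ) (χ : IrrCharacter G) :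
    (v l χ : ℂ) = (Nat.card A : ℂ)⁻¹ *
      ∑ a : A, (1 - (((l a)⁻¹ : ℂˣ) : ℂ)) * ((χ : G → ℂ) a) := by
  have h1 : (v l χ : ℂ) = conj (v l χ : ℂ) := by simp
  rw [h1, v_eq, map_mul, map_inv₀, map_natCast, map_sum]
  congr 1
  refine Finset.sum_congr rfl (fun a _ => ?_)
  rw [map_mul, map_sub, map_one, conj_hom, Complex.conj_conj]

/-- the principal character -/
noncomputable def one : IrrCharacter G := ⟨1, isIrr_one⟩

theorem one_apply (x : G) : ((one : IrrCharacter G) : G → ℂ) x = 1 := rfl

theorem v_one {A : Subgroup G} (l : A →* ℂˣ) (hl : l ≠ 1) : v l (one : IrrCharacter G) = 1 := by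
  classical
  have h1 : (v l (one : IrrCharacter G) : ℂ) = 1 := by
    rw [v_eq]
    simp only [one_apply, map_one, mul_one, Finset.sum_sub_distrib, Finset.sum_const,
      Finset.card_univ, nsmul_eq_mul]
    rw [sum_apply, if_neg hl, ← Nat.card_eq_fintype_card, sub_zero]
    exact inv_mul_cancel₀ card_ne_zero_complex
  exact_mod_cast h1

theorem theta_eq_sum [Fintype (IrrCharacter G)] {A : Subgroup G} (l : A →* ℂˣ) (x : G) :
    theta l x = ∑ χ : IrrCharacter G, (v l χ : ℂ) * (χ : G → ℂ) x := by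
  conv_lhs => rw [classFunction_eq_sum (theta_class l)]
  rw [Finset.sum_apply]
  refine Finset.sum_congr rfl (fun χ _ => ?_)
  rw [Pi.smul_apply, smul_eq_mul, v_spec]

section main

variable {A : Subgroup G} {t s : G} (h : BSWData A t s)
include h

theorem theta_mem (l : A →* ℂˣ) (a : A) :
    theta l (a : G) = 2 - (l a : ℂ) - (((l a)⁻¹ : ℂˣ) : ℂ) := by
  rw [theta_def, indFun_apply_mem h _ (al_one l), al_apply, al_apply, map_inv]
  ring

omit h in
theorem theta_eq_zero (l : A →* ℂˣ) {x : G} (hx : ¬ (x ≠ 1 ∧ ConjIn A x)) : theta l x = 0 :=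
  indFun_eq_zero _ (al_one l) hx

theorem l_t_sq (l : A →* ℂˣ) : (l ⟨t, h.t_mem⟩ : ℂ) * (l ⟨t, h.t_mem⟩ : ℂ) = 1 := by
  rw [← Units.val_mul, ← map_mul]
  have : (⟨t, h.t_mem⟩ : A) * ⟨t, h.t_mem⟩ = 1 := Subtype.ext h.t_sq
  rw [this, map_one, Units.val_one]

theorem l_t_inv (l : A →* ℂˣ) : (((l ⟨t, h.t_mem⟩)⁻¹ : ℂˣ) : ℂ) = (l ⟨t, h.t_mem⟩ : ℂ) := by
  have h1 := l_t_sq h l
  rw [Units.val_inv_eq_inv_val]
  exact inv_eq_of_mul_eq_one_left h1

theorem theta_t (l : A →* ℂˣ) : theta l t = 2 * (1 - (l ⟨t, h.t_mem⟩ : ℂ)) := by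
  have := theta_mem h l ⟨t, h.t_mem⟩
  rw [show ((⟨t, h.t_mem⟩ : A) : G) = t from rfl] at this
  rw [this, l_t_inv h]
  ring

open scoped Classical in
/-- inner products of the `θ_l` -/
theorem sum_v_mul_v [Fintype (IrrCharacter G)] (l l' : A →* ℂˣ) (hl : l ≠ 1) (hl' : l' ≠ 1) :
    ∑ χ : IrrCharacter G, v l χ * v l' χ =
      2 + (if l = l' then 1 else 0) + (if l * l' = 1 then 1 else 0) := by
  have h1 : ((∑ χ : IrrCharacter G, v l χ * v l' χ : ℤ) : ℂ) = classInner (theta l) (theta l') := by
    rw [classInner_eq_sum (theta_class l) (theta_class l')]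
    push_cast
    refine Finset.sum_congr rfl (fun χ _ => ?_)
    rw [v_spec, v_spec]
    simp
  have h2 : classInner (theta l) (theta l') = classInner (al l) (fun x : A => theta l' x) :=
    Cfsg.Agent.S0150.classInner_indFun A (al l) (theta l') (fun g k => theta_class l' g k)
  have hm : (Nat.card A : ℂ) ≠ 0 := card_ne_zero_complex
  have h3 : classInner (al l) (fun x : A => theta l' x) =
      2 + (if l = l' then 1 else 0) + (if l * l' = 1 then 1 else 0) := by
    rw [classInner_def]
    have e1 : ∀ a : A, al l a * conj (theta l' (a : G)) =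
        2 - 2 * (l a : ℂ) - ((l'⁻¹) a : ℂ) + ((l * l'⁻¹) a : ℂ) - (l' a : ℂ) + ((l * l') a : ℂ) := by
      intro a
      have hc : conj (((l' a)⁻¹ : ℂˣ) : ℂ) = (l' a : ℂ) := by
        rw [← conj_hom, Complex.conj_conj]
      rw [theta_mem h, al_apply, map_sub, map_sub, conj_hom, hc]
      simp only [MonoidHom.mul_apply, MonoidHom.inv_apply, Units.val_mul]
      rw [map_ofNat]
      ring
    rw [Finset.sum_congr rfl (fun a _ => e1 a)]
    simp only [Finset.sum_add_distrib, Finset.sum_sub_distrib, ← Finset.mul_sum, sum_apply]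
    have hl'i : l'⁻¹ ≠ 1 := by
      intro h5
      apply hl'
      ext a
      have := DFunLike.congr_fun h5 a
      rw [MonoidHom.inv_apply, MonoidHom.one_apply, inv_eq_one] at this
      rw [this]; rfl
    have e2 : l * l'⁻¹ = 1 ↔ l = l' := by
      constructor
      · intro h5
        ext a
        have := DFunLike.congr_fun h5 a
        rw [MonoidHom.mul_apply, MonoidHom.inv_apply, MonoidHom.one_apply, mul_inv_eq_one] at this
        rw [this]
      · rintro rfl
        ext a
        simp
    simp only [e2, if_neg hl, if_neg hl', if_neg hl'i, Finset.sum_const, Finset.card_univ,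
      nsmul_eq_mul, ← Nat.card_eq_fintype_card]
    split_ifs <;> field_simp <;> ring
  have h4 : ((∑ χ : IrrCharacter G, v l χ * v l' χ : ℤ) : ℂ) =
      ((2 + (if l = l' then 1 else 0) + (if l * l' = 1 then 1 else 0) : ℤ) : ℂ) := by
    rw [h1, h2, h3]
    push_cast
    rfl
  exact_mod_cast h4

end main

end Cfsg.Agent.Classification.BSW.Theta
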